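import Groth.Agent.ClosedRep.GeomIntegral
import Groth.Agent.SubLocus.Transporter
import Groth.Agent.LimDesc.FPCancel
import Groth.Agent.Rigid.GeomFibre

/-!
Transporters of smooth closed subschemes with geometrically connected fibres into closed subschemes.
-/

set_option autoImplicit false
set_option linter.style.haveILetI false
set_option backward.isDefEq.respectTransparency false

universe u

open CategoryTheory CategoryTheory.Limits MonoidalCategory CartesianMonoidalCategory AlgebraicGeometry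
open scoped CategoryTheory.Obj MonObj

noncomputable section

namespace Groth.Agent.TranspSm

variable {S : Scheme.{u}}

theorem factors_iff_ker {X Y Z : Scheme.{u}} (j : Y ⟶ Z) [IsClosedImmersion j] (a : X ⟶ Z) :
    (∃ m, m ≫ j = a) ↔ j.ker.comap a = ⊥ := by
  rw [← ClosedRep.isIso_snd_iff j a]
  constructor
  · rintro ⟨m, hm⟩
    haveI : IsSplitEpi (pullback.snd j a) :=
      ⟨⟨⟨pullback.lift m (𝟙 X) (by rw [hm, Category.id_comp]), pullback.lift_snd _ _ _⟩⟩⟩
    haveI : Mono (pullback.snd j a) := inferInstance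
    exact isIso_of_mono_of_isSplitEpi _
  · intro h
    exact ⟨inv (pullback.snd j a) ≫ pullback.fst j a, by
      rw [Category.assoc, pullback.condition, IsIso.inv_hom_id_assoc]⟩

/-- Conjugation of a scheme over `S` mapped to a group. -/
def conj {G Y : Over S} [GrpObj G] (y : Y ⟶ G) : Y ⊗ G ⟶ G := snd Y G * (fst Y G ≫ y) * (snd Y G)⁻¹

theorem lift_conj {G Y : Over S} [GrpObj G] (y : Y ⟶ G) {T : Over S} (h : T ⟶ Y) (g : T ⟶ G) :
    lift h g ≫ conj y = g * (h ≫ y) * g⁻¹ := by
  simp only [conj, MonObj.comp_mul, GrpObj.comp_inv, lift_fst_assoc, lift_snd]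

/-- The transporter into a closed subscheme. -/
theorem exists_transporter (G Y Y' : Over S) [GrpObj G] [Smooth G.hom] [Smooth Y.hom]
    [GeometricallyIntegral Y.hom] (y : Y ⟶ G) (y' : Y' ⟶ G) [IsClosedImmersion y'.left]
    [LocallyOfFinitePresentation Y'.hom] :
    ∃ (C : Over S) (c : C ⟶ G), IsClosedImmersion c.left ∧ LocallyOfFinitePresentation C.hom ∧
      ∀ (X : Over S) (g : X ⟶ G), (∃ z : X ⟶ C, z ≫ c = g) ↔
        ∀ (X' : Over S) (x : X' ⟶ X) (a : X' ⟶ Y), ∃ a' : X' ⟶ Y',
          (x ≫ g) * (a ≫ y) * (x ≫ g)⁻¹ = a' ≫ y' := by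
  let F : Y ⊗ G ⟶ G := conj y
  haveI : LocallyOfFiniteType G.hom := inferInstance
  haveI : LocallyOfFinitePresentation y'.left := by
    haveI : LocallyOfFinitePresentation (y'.left ≫ G.hom) := by rw [Over.w]; infer_instance
    exact LimDesc.lfp_of_comp y'.left G.hom
  let j : pullback F.left y'.left ⟶ (Y ⊗ G).left := pullback.fst F.left y'.left
  let f : (Y ⊗ G).left ⟶ G.left := (snd Y G).left
  haveI : Smooth f := MorphismProperty.pullback_snd Y.hom G.hom ‹Smooth Y.hom›
  haveI : GeometricallyIntegral f :=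
    MorphismProperty.of_isPullback (IsPullback.of_hasPullback Y.hom G.hom) ‹GeometricallyIntegral Y.hom›
  haveI : IsClosedImmersion j := MorphismProperty.pullback_fst F.left y'.left ‹_›
  haveI : LocallyOfFinitePresentation j := MorphismProperty.pullback_fst F.left y'.left ‹_›
  obtain ⟨T, t, ht, hT, hTfp⟩ := ClosedRep.GeomIntegral.exists_weilRestriction_closed f j
  haveI := hTfp ‹_›
  let C : Over S := Over.mk (t ≫ G.hom)
  let c : C ⟶ G := Over.homMk t rfl
  refine ⟨C, c, ht, inferInstanceAs (LocallyOfFinitePresentation (t ≫ G.hom)), fun X g => ?_⟩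
  rw [SubLocus.exists_lift_over_iff]
  change (∃ m, m ≫ t = g.left) ↔ _
  rw [hT, ← factors_iff_ker]
  have hF : ∀ {X' : Over S} (v : X' ⟶ Y ⊗ G),
      (∃ m, m ≫ j = v.left) ↔ ∃ a' : X' ⟶ Y', a' ≫ y' = v ≫ F := by
    intro X' v
    constructor
    · rintro ⟨m, hm⟩
      refine (SubLocus.exists_lift_over_iff y' (v ≫ F)).2 ⟨m ≫ pullback.snd F.left y'.left, ?_⟩
      rw [Category.assoc, ← pullback.condition, ← Category.assoc, Over.comp_left]
      exact congrArg (· ≫ F.left) hm
    · rintro ⟨a', ha⟩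
      exact ⟨pullback.lift v.left a'.left (by rw [← Over.comp_left, ← Over.comp_left, ha]),
        pullback.lift_fst _ _ _⟩
  constructor
  · intro hm X' x a
    have h : ∃ a' : X' ⟶ Y', a' ≫ y' = lift a (x ≫ g) ≫ F := by
      obtain ⟨m, hm⟩ := hm
      refine (hF _).1 ⟨pullback.lift (lift a (x ≫ g)).left x.left ?_ ≫ m, ?_⟩
      · exact congr(($(lift_snd a (x ≫ g))).left)
      · rw [Category.assoc, hm, pullback.lift_fst]
    obtain ⟨a', ha⟩ := h
    rw [lift_conj] at ha
    exact ⟨a', ha.symm⟩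
  · intro h
    let X' : Over S := Over.mk (pullback.snd f g.left ≫ X.hom)
    let x : X' ⟶ X := Over.homMk (pullback.snd f g.left) rfl
    let w : X' ⟶ Y ⊗ G := Over.homMk (pullback.fst f g.left) (by
      change _ = pullback.snd f g.left ≫ X.hom
      rw [← Over.w g, ← pullback.condition_assoc, Over.w (snd Y G)])
    have hw : lift (w ≫ fst Y G) (x ≫ g) = w := by
      apply CartesianMonoidalCategory.hom_ext
      · rw [lift_fst]
      · rw [lift_snd]
        exact Over.OverMorphism.ext pullback.condition.symm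
    obtain ⟨a', ha'⟩ := h X' x (w ≫ fst Y G)
    refine (hF w).2 ⟨a', ?_⟩
    rw [← hw, lift_conj]
    exact ha'.symm

end Groth.Agent.TranspSm

end
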